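import Groth.Agent.EtFound.Descent
import Groth.Prelude.Def_AlgGrp
import Mathlib.CategoryTheory.Limits.Constructions.Over.Connected
import Mathlib.CategoryTheory.Monoidal.Cartesian.Grp

/-! The short five lemma for closed immersions of group schemes. -/

set_option autoImplicit false
set_option backward.isDefEq.respectTransparency false
set_option backward.isDefEq.respectTransparency.types false

universe u

open CategoryTheory Limits MonoidalCategory CartesianMonoidalCategory AlgebraicGeometry MonObj GrpObj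

namespace Groth.Agent.GrpdFive

/-- `(n, t) ↦ (n x(t), t)` identifies `N × X` with `G ×_Q X`. -/
theorem exists_shift {S : Scheme.{u}} {N G Q X : Over S} [GrpObj G] [GrpObj Q] (i : N ⟶ G) (q : G ⟶ Q)
    [IsMonHom q] (hk : AlgGrp.IsKernel i q) (x : X ⟶ G) :
    ∃ e : N ⊗ X ≅ pullback q (x ≫ q), e.hom ≫ pullback.fst q (x ≫ q) = (fst N X ≫ i) * (snd N X ≫ x) ∧
      e.hom ≫ pullback.snd q (x ≫ q) = snd N X := by
  haveI hmono : Mono i := ⟨fun a b hab => hk.hom_ext hab (toUnit_unique _ _)⟩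
  have hi1 : ∀ {T : Over S} (n : T ⟶ N), (n ≫ i) ≫ q = 1 := fun n => by
    rw [Category.assoc, hk.w, ← Category.assoc, comp_toUnit, MonObj.one_eq_one]
    exact MonObj.comp_one _
  let p : N ⊗ X ⟶ pullback q (x ≫ q) := pullback.lift ((fst N X ≫ i) * (snd N X ≫ x)) (snd N X) (by
    rw [MonObj.mul_comp, hi1, _root_.one_mul, Category.assoc])
  let m := pullback.fst q (x ≫ q) * (pullback.snd q (x ≫ q) ≫ x)⁻¹
  have hm : m ≫ q = toUnit _ ≫ η[Q] := by
    simp only [m, MonObj.mul_comp, GrpObj.inv_comp, Category.assoc, ← pullback.condition, mul_inv_cancel,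
      MonObj.one_eq_one, MonObj.comp_one]
  let r : pullback q (x ≫ q) ⟶ N ⊗ X := lift (hk.lift m (toUnit _) hm) (pullback.snd q (x ≫ q))
  have hpf : p ≫ pullback.fst q (x ≫ q) = (fst N X ≫ i) * (snd N X ≫ x) := pullback.lift_fst _ _ _
  have hps : p ≫ pullback.snd q (x ≫ q) = snd N X := pullback.lift_snd _ _ _
  refine ⟨⟨p, r, ?_, ?_⟩, hpf, hps⟩
  · refine CartesianMonoidalCategory.hom_ext _ _ ?_ (by rw [Category.assoc, lift_snd, hps, Category.id_comp])
    rw [← cancel_mono i, Category.assoc, Category.assoc, lift_fst_assoc, hk.lift_fst, MonObj.comp_mul,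
      GrpObj.comp_inv, ← Category.assoc p, hps, hpf, mul_inv_cancel_right, Category.id_comp]
  · refine pullback.hom_ext ?_ (by rw [Category.assoc, hps, lift_snd, Category.id_comp])
    rw [Category.assoc, hpf, MonObj.comp_mul, ← Category.assoc, lift_fst, hk.lift_fst, ← Category.assoc,
      lift_snd, inv_mul_cancel_right, Category.id_comp]

theorem main {S : Scheme.{u}} {H₁' H₁ H₁'' H₂' H₂ H₂'' : Over S} [GrpObj H₁] [GrpObj H₁''] [GrpObj H₂]
    [GrpObj H₂''] [IsSeparated H₁''.hom] [QuasiCompact H₁.hom]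
    (a₁ : H₁' ⟶ H₁) (b₁ : H₁ ⟶ H₁'') (a₂ : H₂' ⟶ H₂) (b₂ : H₂ ⟶ H₂'') [IsMonHom b₁] [IsMonHom b₂]
    (h₁ : AlgGrp.IsKernel a₁ b₁) (hb₁ : Flat b₁.left ∧ Surjective b₁.left) (h₂ : AlgGrp.IsKernel a₂ b₂)
    (j' : H₁' ⟶ H₂') (j : H₁ ⟶ H₂) (j'' : H₁'' ⟶ H₂'') [IsMonHom j]
    (sq₁ : a₁ ≫ j = j' ≫ a₂) (sq₂ : b₁ ≫ j'' = j ≫ b₂)
    (hj' : IsClosedImmersion j'.left) (hj'' : IsClosedImmersion j''.left) :
    IsClosedImmersion j.left := by
  let P := pullback b₂ j''
  let π : P ⟶ H₁'' := pullback.snd b₂ j''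
  let φ : H₁ ⟶ P := pullback.lift j b₁ sq₂.symm
  obtain ⟨e₁, he₁f, he₁s⟩ := exists_shift a₁ b₁ h₁ (𝟙 H₁)
  obtain ⟨e₂, he₂f, he₂s⟩ := exists_shift a₂ b₂ h₂ j
  let ρ : pullback b₂ (j ≫ b₂) ⟶ P := pullback.lift (pullback.fst _ _) (pullback.snd _ _ ≫ b₁) (by
    rw [pullback.condition, Category.assoc, sq₂])
  let φ' : pullback b₁ (𝟙 H₁ ≫ b₁) ⟶ pullback b₂ (j ≫ b₂) :=
    pullback.lift (pullback.fst _ _ ≫ j) (pullback.snd _ _) (by
      rw [Category.assoc, ← sq₂, pullback.condition_assoc]; simp)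
  have hr : IsPullback (pullback.snd b₂ (j ≫ b₂)) ρ b₁ π := by
    refine IsPullback.of_bot ?_ (pullback.lift_snd _ _ _).symm (IsPullback.of_hasPullback b₂ j'').flip
    rw [show ρ ≫ pullback.fst b₂ j'' = pullback.fst b₂ (j ≫ b₂) from pullback.lift_fst _ _ _, sq₂]
    exact (IsPullback.of_hasPullback b₂ (j ≫ b₂)).flip
  have hl : IsPullback φ' (pullback.fst b₁ (𝟙 H₁ ≫ b₁)) ρ φ := by
    refine IsPullback.of_right ?_ ?_ hr
    · rw [show φ' ≫ pullback.snd b₂ (j ≫ b₂) = pullback.snd b₁ (𝟙 H₁ ≫ b₁) from pullback.lift_snd _ _ _,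
        show φ ≫ π = b₁ from pullback.lift_snd _ _ _]
      simpa using (IsPullback.of_hasPullback b₁ (𝟙 H₁ ≫ b₁)).flip
    · apply pullback.hom_ext
      · simp only [Category.assoc, ρ, φ, φ', pullback.lift_fst]
      · simp only [Category.assoc, ρ, φ, φ', pullback.lift_snd, pullback.lift_snd_assoc]
        rw [pullback.condition]; simp
  have hφ' : e₁.hom ≫ φ' = (j' ▷ H₁) ≫ e₂.hom := by
    apply pullback.hom_ext
    · simp only [Category.assoc, φ', pullback.lift_fst, he₂f]
      rw [← Category.assoc, he₁f, MonObj.comp_mul, MonObj.mul_comp, whiskerRight_fst_assoc,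
        whiskerRight_snd_assoc, Category.assoc, sq₁, Category.comp_id]
    · simp only [Category.assoc, φ', pullback.lift_snd, he₁s, he₂s, whiskerRight_snd]
  haveI : IsClosedImmersion (j' ▷ H₁).left := by
    rw [Over.whiskerRight_left]
    exact MorphismProperty.pullbackMap (P := @IsClosedImmersion) hj' (inferInstanceAs (IsClosedImmersion (𝟙 H₁.left))) (Over.w j').symm (Category.id_comp _).symm
  haveI : IsIso e₁.hom.left := ((Over.forget _).mapIso e₁).isIso_hom
  haveI : IsIso e₂.hom.left := ((Over.forget _).mapIso e₂).isIso_hom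
  haveI hc : IsClosedImmersion φ'.left := by
    rw [← MorphismProperty.cancel_left_of_respectsIso @IsClosedImmersion e₁.hom.left, ← Over.comp_left, hφ',
      Over.comp_left]
    infer_instance
  haveI := hb₁.1; haveI := hb₁.2
  haveI : QuasiCompact (b₁.left ≫ H₁''.hom) := by rw [Over.w b₁]; infer_instance
  haveI : QuasiCompact b₁.left := QuasiCompact.of_comp b₁.left H₁''.hom
  have hrl := hr.map (Over.forget S)
  have hρ : (@Surjective ⊓ @Flat ⊓ @QuasiCompact : MorphismProperty Scheme.{u}) ρ.left :=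
    ⟨⟨MorphismProperty.of_isPullback (P := @Surjective) hrl hb₁.2,
      MorphismProperty.of_isPullback (P := @Flat) hrl hb₁.1⟩,
      MorphismProperty.of_isPullback (P := @QuasiCompact) hrl ‹_›⟩
  haveI := EtFound.fpqc_isClosedImmersion.{u}
  haveI : IsClosedImmersion φ.left :=
    MorphismProperty.of_isPullback_of_descendsAlong (P := @IsClosedImmersion)
      (Q := @Surjective ⊓ @Flat ⊓ @QuasiCompact) (hl.map (Over.forget S)) hρ hc
  haveI : IsClosedImmersion (pullback.fst b₂ j'').left :=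
    MorphismProperty.of_isPullback (P := @IsClosedImmersion)
      ((IsPullback.of_hasPullback b₂ j'').map (Over.forget S)).flip hj''
  rw [show j = φ ≫ pullback.fst b₂ j'' from (pullback.lift_fst _ _ _).symm, Over.comp_left]
  infer_instance

end Groth.Agent.GrpdFive
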